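import Cfsg.Prelude.Def_Classical

set_option autoImplicit false

/-!
Embeddings into the classical groups used for the word-law statements: block `SL₂` and permutation
matrices in `SL_n`, the hyperbolic embedding `A ↦ (A, A⁻ᵀ)` of `SL_n`, a copy of `SL₂(q)` in `SU_n(q)`,
and the criterion that turns an injective map from a perfect group into a non-law.
-/

namespace CfsgLib.Laws

open Matrix
open scoped commutatorElement

/-! ### Criterion -/

theorem not_law_quotient_center {G₀ C G : Type*} [Group G₀] [Group C] [Group G] (w : FreeGroup ℕ)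
    (f : ℕ → G₀) (hf : FreeGroup.lift f w ∉ Subgroup.center G₀) (φ : G₀ →* C)
    (hφ : Function.Injective φ) (e : G ≃* C ⧸ Subgroup.center C) :
    ∃ g : ℕ → G, FreeGroup.lift g w ≠ 1 := by
  let ψ : G₀ →* G := e.symm.toMonoidHom.comp ((QuotientGroup.mk' (Subgroup.center C)).comp φ)
  refine ⟨fun i => ψ (f i), fun h => hf ?_⟩
  have he : FreeGroup.lift (fun i => ψ (f i)) = ψ.comp (FreeGroup.lift f) := by ext i; simp
  rw [he] at h
  have h' : φ (FreeGroup.lift f w) ∈ Subgroup.center C := by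
    rw [← QuotientGroup.eq_one_iff]
    apply e.symm.injective
    rw [map_one]
    exact h
  rw [Subgroup.mem_center_iff] at h' ⊢
  intro x
  exact hφ (by rw [map_mul, map_mul]; exact h' (φ x))

/-- An injective map from a perfect group lands in the derived subgroup. -/
def toCommutator {G₀ H : Type*} [Group G₀] [Group H] (hp : commutator G₀ = ⊤) (φ : G₀ →* H) :
    G₀ →* commutator H :=
  φ.codRestrict (commutator H) fun x => by
    have h1 : (commutator G₀).map φ ≤ commutator H := by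
      rw [commutator_def, Subgroup.map_commutator, commutator_def]
      exact Subgroup.commutator_mono le_top le_top
    exact h1 (Subgroup.mem_map_of_mem φ (by rw [hp]; trivial))

theorem toCommutator_injective {G₀ H : Type*} [Group G₀] [Group H] (hp : commutator G₀ = ⊤)
    (φ : G₀ →* H) (hφ : Function.Injective φ) : Function.Injective (toCommutator hp φ) :=
  fun _ _ h => hφ (congrArg Subtype.val h)

/-! ### `SL₂` is perfect over fields with at least four elements -/

section SLTwo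

variable {F : Type*} [Field F]

private theorem sl_two_ext {A B : Matrix.SpecialLinearGroup (Fin 2) F}
    (h : (A : Matrix (Fin 2) (Fin 2) F) = B) : A = B := Subtype.ext h

theorem sl_two_perfect [Fintype F] (hF : 4 ≤ Fintype.card F) :
    commutator (Matrix.SpecialLinearGroup (Fin 2) F) = ⊤ := by
  classical
  obtain ⟨a, ha⟩ : ∃ a : F, a ∉ ({0, 1, -1} : Finset F) :=
    Finset.exists_mem_notMem_of_card_lt_card (s := ({0, 1, -1} : Finset F)) (t := Finset.univ)
      (lt_of_le_of_lt Finset.card_le_three (by rw [Finset.card_univ]; omega)) |>.imp fun x hx => hx.2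
  simp only [Finset.mem_insert, Finset.mem_singleton, not_or] at ha
  obtain ⟨ha0, ha1, ha2⟩ := ha
  have hs : a ^ 2 - 1 ≠ 0 := by
    intro h
    rcases mul_eq_zero.mp (show (a - 1) * (a + 1) = 0 by linear_combination h) with h | h
    · exact ha1 (sub_eq_zero.mp h)
    · exact ha2 (eq_neg_of_add_eq_zero_left h)
  let U : F → Matrix.SpecialLinearGroup (Fin 2) F := fun t => ⟨!![1, t; 0, 1], by simp [det_fin_two]⟩
  let V : F → Matrix.SpecialLinearGroup (Fin 2) F := fun t => ⟨!![1, 0; t, 1], by simp [det_fin_two]⟩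
  let D : Matrix.SpecialLinearGroup (Fin 2) F := ⟨!![a, 0; 0, a⁻¹], by simp [det_fin_two, ha0]⟩
  have cU : ∀ t, (U t : Matrix (Fin 2) (Fin 2) F) = !![1, t; 0, 1] := fun _ => rfl
  have cV : ∀ t, (V t : Matrix (Fin 2) (Fin 2) F) = !![1, 0; t, 1] := fun _ => rfl
  have cD : (D : Matrix (Fin 2) (Fin 2) F) = !![a, 0; 0, a⁻¹] := rfl
  have hU : ∀ t, U t ∈ commutator (Matrix.SpecialLinearGroup (Fin 2) F) := by
    intro t
    have h : U t = ⁅D, U (t / (a ^ 2 - 1))⁆ := by
      apply sl_two_ext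
      rw [commutatorElement_def, Matrix.SpecialLinearGroup.coe_mul, Matrix.SpecialLinearGroup.coe_mul,
        Matrix.SpecialLinearGroup.coe_mul, Matrix.SpecialLinearGroup.coe_inv, Matrix.SpecialLinearGroup.coe_inv,
        cU, cU, cD, adjugate_fin_two, adjugate_fin_two]
      ext i j
      fin_cases i <;> fin_cases j <;> simp [Matrix.mul_apply, Fin.sum_univ_two, ha0]
      field_simp
      ring
    rw [h, commutator_def]
    exact Subgroup.commutator_mem_commutator trivial trivial
  have hV : ∀ t, V t ∈ commutator (Matrix.SpecialLinearGroup (Fin 2) F) := by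
    intro t
    have h : V t = ⁅V (t / (a ^ 2 - 1)), D⁻¹⁆⁻¹ := by
      apply sl_two_ext
      rw [commutatorElement_inv, commutatorElement_def, inv_inv, Matrix.SpecialLinearGroup.coe_mul,
        Matrix.SpecialLinearGroup.coe_mul,
        Matrix.SpecialLinearGroup.coe_mul, Matrix.SpecialLinearGroup.coe_inv, Matrix.SpecialLinearGroup.coe_inv,
        cV, cV, cD, adjugate_fin_two, adjugate_fin_two]
      ext i j
      fin_cases i <;> fin_cases j <;> simp [Matrix.mul_apply, Fin.sum_univ_two, ha0]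
      field_simp
      ring
    rw [h, commutator_def]
    exact inv_mem (Subgroup.commutator_mem_commutator trivial trivial)
  have main : ∀ g : Matrix.SpecialLinearGroup (Fin 2) F, (g : Matrix (Fin 2) (Fin 2) F) 1 0 ≠ 0 →
      g ∈ commutator (Matrix.SpecialLinearGroup (Fin 2) F) := by
    intro g hc
    have hd : (g : Matrix (Fin 2) (Fin 2) F).det = 1 := g.det_coe
    rw [det_fin_two] at hd
    have h : g = U (((g : Matrix (Fin 2) (Fin 2) F) 0 0 - 1) / (g : Matrix (Fin 2) (Fin 2) F) 1 0) *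
        V ((g : Matrix (Fin 2) (Fin 2) F) 1 0) *
        U (((g : Matrix (Fin 2) (Fin 2) F) 1 1 - 1) / (g : Matrix (Fin 2) (Fin 2) F) 1 0) := by
      apply sl_two_ext
      rw [Matrix.SpecialLinearGroup.coe_mul, Matrix.SpecialLinearGroup.coe_mul, cU, cU, cV]
      ext i j
      fin_cases i <;> fin_cases j <;> simp [Matrix.mul_apply, Fin.sum_univ_two] <;> field_simp <;>
        first
          | (ring; done)
          | linear_combination hd
          | linear_combination -hd
    rw [h]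
    exact mul_mem (mul_mem (hU _) (hV _)) (hU _)
  refine eq_top_iff.mpr fun g _ => ?_
  by_cases hc : (g : Matrix (Fin 2) (Fin 2) F) 1 0 = 0
  · have h2 : ((V 1 * g : Matrix.SpecialLinearGroup (Fin 2) F) : Matrix (Fin 2) (Fin 2) F) 1 0 ≠ 0 := by
      have hd : (g : Matrix (Fin 2) (Fin 2) F).det = 1 := g.det_coe
      rw [det_fin_two, hc] at hd
      rw [Matrix.SpecialLinearGroup.coe_mul, cV]
      simp [Matrix.mul_apply, Fin.sum_univ_two, hc]
      intro h
      rw [h] at hd
      simp at hd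
    have := mul_mem (inv_mem (hV 1)) (main _ h2)
    rwa [← mul_assoc, inv_mul_cancel, one_mul] at this
  · exact main g hc

end SLTwo

/-! ### Maps into `SL_n` -/

section SLn

variable (F : Type*) [Field F]

/-- `Fin n ≃ Fin 2 ⊕ Fin (n - 2)`. -/
def splitTwo {n : ℕ} (hn : 2 ≤ n) : Fin n ≃ Fin 2 ⊕ Fin (n - 2) :=
  (finCongr (by omega)).trans finSumFinEquiv.symm

/-- The block embedding of `SL₂` in `SL_n`. -/
def slTwoEmbed {n : ℕ} (hn : 2 ≤ n) : Matrix.SpecialLinearGroup (Fin 2) F →* Matrix.SpecialLinearGroup (Fin n) F where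
  toFun A := ⟨(fromBlocks (A : Matrix (Fin 2) (Fin 2) F) 0 0 1).submatrix (splitTwo hn) (splitTwo hn),
    by rw [det_submatrix_equiv_self, det_fromBlocks_zero₂₁, det_one, mul_one]; exact A.det_coe⟩
  map_one' := Subtype.ext (by simp [fromBlocks_one, submatrix_one_equiv])
  map_mul' A B := Subtype.ext (by
    change _ = (fromBlocks (A : Matrix (Fin 2) (Fin 2) F) 0 0 1).submatrix _ _ *
      (fromBlocks (B : Matrix (Fin 2) (Fin 2) F) 0 0 1).submatrix _ _
    rw [submatrix_mul_equiv, fromBlocks_multiply]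
    simp [Matrix.SpecialLinearGroup.coe_mul])

theorem coe_slTwoEmbed {n : ℕ} (hn : 2 ≤ n) (A : Matrix.SpecialLinearGroup (Fin 2) F) :
    (slTwoEmbed F hn A : Matrix (Fin n) (Fin n) F) =
      (fromBlocks (A : Matrix (Fin 2) (Fin 2) F) 0 0 1).submatrix (splitTwo hn) (splitTwo hn) := rfl

theorem slTwoEmbed_injective {n : ℕ} (hn : 2 ≤ n) : Function.Injective (slTwoEmbed F hn) := by
  intro A B h
  refine Subtype.ext ?_
  ext i j
  have h' := congrArg (fun M : Matrix.SpecialLinearGroup (Fin n) F =>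
    (M : Matrix (Fin n) (Fin n) F) ((splitTwo hn).symm (.inl i)) ((splitTwo hn).symm (.inl j))) h
  simpa [coe_slTwoEmbed] using h'

/-- Even permutations as matrices in `SL_n`. -/
def altEmbed (n : ℕ) : alternatingGroup (Fin n) →* Matrix.SpecialLinearGroup (Fin n) F where
  toFun σ := ⟨(σ.1⁻¹).permMatrix F, by
    rw [det_permutation]
    simp [Equiv.Perm.mem_alternatingGroup.mp (inv_mem σ.2)]⟩
  map_one' := Subtype.ext (by simp)
  map_mul' a b := Subtype.ext (by
    change _ = (a.1⁻¹).permMatrix F * (b.1⁻¹).permMatrix F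
    rw [← permMatrix_mul]
    simp)

theorem altEmbed_injective (n : ℕ) : Function.Injective (altEmbed F n) := by
  intro a b h
  have h' : (a.1⁻¹).permMatrix F = (b.1⁻¹).permMatrix F := congrArg Subtype.val h
  refine Subtype.ext (inv_injective (Equiv.ext fun i => ?_))
  have := congrFun (congrFun h' i) (a.1⁻¹ i)
  simp [Equiv.Perm.permMatrix, PEquiv.toMatrix_apply, Equiv.toPEquiv_apply] at this
  exact this.symm

end SLn

/-! ### The hyperbolic embedding of `SL_n` -/

section Hyp

variable {F : Type*} [Field F] {G₀ : Type*} [Group G₀] {n : ℕ}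

/-- `g ↦ diag(ρ g, (ρ g)⁻ᵀ)` as matrices. -/
def hyp (ρ : G₀ →* Matrix.SpecialLinearGroup (Fin n) F) : G₀ →* Matrix (Fin n ⊕ Fin n) (Fin n ⊕ Fin n) F where
  toFun g := fromBlocks (ρ g : Matrix (Fin n) (Fin n) F) 0 0
    ((ρ g⁻¹ : Matrix (Fin n) (Fin n) F))ᵀ
  map_one' := by simp [fromBlocks_one]
  map_mul' a b := by
    rw [fromBlocks_multiply]
    simp [Matrix.SpecialLinearGroup.coe_mul, map_mul, _root_.mul_inv_rev, transpose_mul]

theorem rho_mul_inv (ρ : G₀ →* Matrix.SpecialLinearGroup (Fin n) F) (g : G₀) :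
    (ρ g : Matrix (Fin n) (Fin n) F) * (ρ g⁻¹ : Matrix (Fin n) (Fin n) F) = 1 := by
  rw [← Matrix.SpecialLinearGroup.coe_mul, ← map_mul, mul_inv_cancel, map_one, Matrix.SpecialLinearGroup.coe_one]

theorem rho_inv_mul (ρ : G₀ →* Matrix.SpecialLinearGroup (Fin n) F) (g : G₀) :
    (ρ g⁻¹ : Matrix (Fin n) (Fin n) F) * (ρ g : Matrix (Fin n) (Fin n) F) = 1 := by
  rw [← Matrix.SpecialLinearGroup.coe_mul, ← map_mul, inv_mul_cancel, map_one, Matrix.SpecialLinearGroup.coe_one]

theorem hyp_injective {ρ : G₀ →* Matrix.SpecialLinearGroup (Fin n) F} (hρ : Function.Injective ρ) :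
    Function.Injective (hyp ρ) :=
  fun _ _ h => hρ (Subtype.ext (congrArg Matrix.toBlocks₁₁ h))

/-- The hyperbolic embedding into the symplectic group. -/
def toSymplectic (ρ : G₀ →* Matrix.SpecialLinearGroup (Fin n) F) : G₀ →* symplecticGroup (Fin n) F :=
  (hyp ρ).codRestrict (symplecticGroup (Fin n) F) fun g => by
    rw [SymplecticGroup.mem_iff, Matrix.J]
    simp only [hyp, MonoidHom.coe_mk, OneHom.coe_mk, fromBlocks_transpose, fromBlocks_multiply]
    simp [← transpose_mul, Matrix.mul_adjugate]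

theorem hyp_plus (ρ : G₀ →* Matrix.SpecialLinearGroup (Fin n) F) (g : G₀) (v : Fin n ⊕ Fin n → F) :
    Cfsg.quadFormPlus n F (hyp ρ g *ᵥ v) = Cfsg.quadFormPlus n F v := by
  have e : hyp ρ g *ᵥ v = Sum.elim ((ρ g : Matrix (Fin n) (Fin n) F) *ᵥ (v ∘ Sum.inl))
      ((ρ g⁻¹ : Matrix (Fin n) (Fin n) F)ᵀ *ᵥ (v ∘ Sum.inr)) := by
    rw [hyp]
    simp only [MonoidHom.coe_mk, OneHom.coe_mk, fromBlocks_mulVec]
    simp
  have key : ((ρ g : Matrix (Fin n) (Fin n) F) *ᵥ (v ∘ Sum.inl)) ⬝ᵥ
      ((ρ g⁻¹ : Matrix (Fin n) (Fin n) F)ᵀ *ᵥ (v ∘ Sum.inr)) = (v ∘ Sum.inl) ⬝ᵥ (v ∘ Sum.inr) := by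
    rw [dotProduct_mulVec, vecMul_transpose, mulVec_mulVec, rho_inv_mul, one_mulVec]
  rw [e]
  exact key

/-- An injective-on-matrices map to the isometry group of a form, from matrices preserving it. -/
def toIsometry {ι : Type} [Fintype ι] [DecidableEq ι] (Q : (ι → F) → F) (ψ : G₀ →* Matrix ι ι F)
    (h : ∀ g v, Q (ψ g *ᵥ v) = Q v) : G₀ →* Cfsg.isometryGroup F Q :=
  ψ.toHomUnits.codRestrict _ fun g => fun u _ => h g u

theorem toIsometry_injective {ι : Type} [Fintype ι] [DecidableEq ι] (Q : (ι → F) → F)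
    (ψ : G₀ →* Matrix ι ι F) (h : ∀ g v, Q (ψ g *ᵥ v) = Q v) (hψ : Function.Injective ψ) :
    Function.Injective (toIsometry Q ψ h) :=
  fun _ _ e => hψ (congrArg (fun x : Cfsg.isometryGroup F Q => (x.1 : Matrix ι ι F)) e)

/-- The hyperbolic embedding, extended by the identity on the left. -/
def hypOdd (ρ : G₀ →* Matrix.SpecialLinearGroup (Fin n) F) :
    G₀ →* Matrix (Unit ⊕ (Fin n ⊕ Fin n)) (Unit ⊕ (Fin n ⊕ Fin n)) F where
  toFun g := fromBlocks 1 0 0 (hyp ρ g)
  map_one' := by simp [fromBlocks_one]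
  map_mul' a b := by rw [fromBlocks_multiply]; simp

theorem hypOdd_form (ρ : G₀ →* Matrix.SpecialLinearGroup (Fin n) F) (g : G₀)
    (v : Unit ⊕ (Fin n ⊕ Fin n) → F) :
    Cfsg.quadFormOdd n F (hypOdd ρ g *ᵥ v) = Cfsg.quadFormOdd n F v := by
  have e : hypOdd ρ g *ᵥ v = Sum.elim (v ∘ Sum.inl) (hyp ρ g *ᵥ (v ∘ Sum.inr)) := by
    rw [hypOdd]
    simp only [MonoidHom.coe_mk, OneHom.coe_mk, fromBlocks_mulVec]
    simp
  rw [e]
  exact congrArg (fun z => v (Sum.inl ()) ^ 2 + z) (hyp_plus ρ g (v ∘ Sum.inr))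

theorem hypOdd_injective {ρ : G₀ →* Matrix.SpecialLinearGroup (Fin n) F} (hρ : Function.Injective ρ) :
    Function.Injective (hypOdd ρ) :=
  fun _ _ h => hyp_injective hρ (congrArg Matrix.toBlocks₂₂ h)

/-- The hyperbolic embedding, extended by the identity on two further coordinates. -/
def hypMinus (ρ : G₀ →* Matrix.SpecialLinearGroup (Fin n) F) :
    G₀ →* Matrix ((Fin n ⊕ Fin n) ⊕ Fin 2) ((Fin n ⊕ Fin n) ⊕ Fin 2) F where
  toFun g := fromBlocks (hyp ρ g) 0 0 1
  map_one' := by simp [fromBlocks_one]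
  map_mul' a b := by rw [fromBlocks_multiply]; simp

theorem hypMinus_form (ρ : G₀ →* Matrix.SpecialLinearGroup (Fin n) F) (g : G₀) (a b : F)
    (v : (Fin n ⊕ Fin n) ⊕ Fin 2 → F) :
    Cfsg.quadFormMinus n F a b (hypMinus ρ g *ᵥ v) = Cfsg.quadFormMinus n F a b v := by
  have e : hypMinus ρ g *ᵥ v = Sum.elim (hyp ρ g *ᵥ (v ∘ Sum.inl)) (v ∘ Sum.inr) := by
    rw [hypMinus]
    simp only [MonoidHom.coe_mk, OneHom.coe_mk, fromBlocks_mulVec]
    simp
  rw [e]
  exact congrArg (fun z => z + (v (Sum.inr 0) ^ 2 + a * v (Sum.inr 0) * v (Sum.inr 1) +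
    b * v (Sum.inr 1) ^ 2)) (hyp_plus ρ g (v ∘ Sum.inl))

theorem hypMinus_injective {ρ : G₀ →* Matrix.SpecialLinearGroup (Fin n) F} (hρ : Function.Injective ρ) :
    Function.Injective (hypMinus ρ) :=
  fun _ _ h => hyp_injective hρ (congrArg Matrix.toBlocks₁₁ h)

end Hyp

/-! ### Maps into `SU_n` -/

section SU

variable {F : Type*} [Field F]

theorem mem_su_of_transpose_mul (n q : ℕ) (σ : F →+* F) (hσ : ∀ x, σ x = x ^ q)
    (g : Matrix.SpecialLinearGroup (Fin n) F)
    (h : (g : Matrix (Fin n) (Fin n) F)ᵀ * (g : Matrix (Fin n) (Fin n) F).map σ = 1) :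
    g ∈ Cfsg.SU n F q := by
  intro u v
  change Cfsg.hermForm n F q ((g : Matrix (Fin n) (Fin n) F) *ᵥ u) ((g : Matrix (Fin n) (Fin n) F) *ᵥ v) = _
  have e : ∀ x : Fin n → F, (fun i => x i ^ q) = σ ∘ x := fun x => funext fun i => (hσ _).symm
  change ((g : Matrix (Fin n) (Fin n) F) *ᵥ u) ⬝ᵥ (fun i => ((g : Matrix (Fin n) (Fin n) F) *ᵥ v) i ^ q) =
    u ⬝ᵥ (fun i => v i ^ q)
  rw [e, e]
  have e2 : σ ∘ ((g : Matrix (Fin n) (Fin n) F) *ᵥ v) = (g : Matrix (Fin n) (Fin n) F).map σ *ᵥ (σ ∘ v) :=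
    funext fun i => RingHom.map_mulVec σ _ v i
  rw [e2, dotProduct_mulVec, ← mulVec_transpose, mulVec_mulVec]
  have h2 : ((g : Matrix (Fin n) (Fin n) F).map σ)ᵀ * (g : Matrix (Fin n) (Fin n) F) = 1 := by
    have := congrArg Matrix.transpose h
    rwa [transpose_mul, transpose_transpose, transpose_one] at this
  rw [h2, one_mulVec]

theorem altEmbed_mem_su (n q : ℕ) (σ : F →+* F) (hσ : ∀ x, σ x = x ^ q) (a : alternatingGroup (Fin n)) :
    altEmbed F n a ∈ Cfsg.SU n F q := by
  refine mem_su_of_transpose_mul n q σ hσ _ ?_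
  change ((a.1⁻¹).permMatrix F)ᵀ * ((a.1⁻¹).permMatrix F).map σ = 1
  rw [transpose_permMatrix]
  have : ((a.1⁻¹).permMatrix F).map σ = (a.1⁻¹).permMatrix F := by
    ext i j
    simp [Equiv.Perm.permMatrix, PEquiv.toMatrix_apply, apply_ite σ]
  rw [this, ← permMatrix_mul]
  simp

/-- The `q`-power map of a field with `q ^ 2` elements. -/
theorem exists_qFrobenius [Fintype F] {q : ℕ} (hF : Fintype.card F = q ^ 2) :
    ∃ σ : F →+* F, ∀ x, σ x = x ^ q := by
  obtain ⟨p, hp⟩ := CharP.exists F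
  obtain ⟨k, hpr, hk⟩ := FiniteField.card F p
  haveI : Fact p.Prime := ⟨hpr⟩
  obtain ⟨j, -, rfl⟩ := (Nat.dvd_prime_pow hpr).mp
    (show q ∣ p ^ (k : ℕ) by rw [← hk, hF]; exact dvd_pow_self q two_ne_zero)
  exact ⟨iterateFrobenius F p j, fun x => iterateFrobenius_def p j x⟩

/-- `SU_n(q)` contains a copy of `SL₂` over a subfield with at least `q - 1` elements. -/
theorem exists_sl_two_hom_su [Fintype F] {q : ℕ} (hF : Fintype.card F = q ^ 2) (hq : 2 ≤ q) {n : ℕ}
    (hn : 2 ≤ n) :
    ∃ (K : Subfield F) (φ : Matrix.SpecialLinearGroup (Fin 2) K →* Matrix.SpecialLinearGroup (Fin n) F),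
      q - 1 ≤ Nat.card K ∧ Function.Injective φ ∧ ∀ g, φ g ∈ Cfsg.SU n F q := by
  classical
  obtain ⟨σ, hσ⟩ := exists_qFrobenius hF
  have hinv : ∀ x, σ (σ x) = x := fun x => by
    rw [hσ, hσ, ← pow_mul, ← sq, ← hF, FiniteField.pow_card]
  let K : Subfield F := σ.eqLocusField (RingHom.id F)
  have memK : ∀ x, x ∈ K ↔ σ x = x := fun x => Iff.rfl
  -- the norm map on units
  let N : Fˣ →* Fˣ := powMonoidHom (q + 1)
  have hcard : Nat.card Fˣ = q ^ 2 - 1 := by
    rw [Nat.card_units, Nat.card_eq_fintype_card, hF]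
  have hmul : Nat.card N.range * Nat.card N.ker = q ^ 2 - 1 := by
    rw [← Subgroup.index_ker, mul_comm, Subgroup.card_mul_index, hcard]
  have hker : Nat.card N.ker ≤ q + 1 := by
    refine le_trans (Nat.card_le_card_of_injective
      (fun x : N.ker => (⟨x.1, (mem_rootsOfUnity _ _).mpr x.2⟩ : rootsOfUnity (q + 1) F)) ?_)
      (card_rootsOfUnity F (q + 1))
    intro a b h
    exact Subtype.ext (congrArg (fun z : rootsOfUnity (q + 1) F => (z : Fˣ)) h)
  have hfix : Nat.card (rootsOfUnity (q - 1) F) ≤ q - 1 := by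
    haveI : NeZero (q - 1) := ⟨by omega⟩
    exact card_rootsOfUnity F (q - 1)
  have hle : N.range ≤ rootsOfUnity (q - 1) F := by
    rintro _ ⟨x, rfl⟩
    rw [mem_rootsOfUnity]
    change (x ^ (q + 1)) ^ (q - 1) = 1
    rw [← pow_mul, show (q + 1) * (q - 1) = q ^ 2 - 1 by
      have := Nat.sq_sub_sq q 1; simpa using this.symm, ← hcard, pow_card_eq_one']
  have hrange : Nat.card N.range ≤ q - 1 :=
    (Nat.card_le_card_of_injective _ (Subgroup.inclusion_injective hle)).trans hfix
  have hq2 : q ^ 2 - 1 = (q - 1) * (q + 1) := by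
    have := Nat.sq_sub_sq q 1
    rw [mul_comm]; simpa using this
  have hr : Nat.card N.range = q - 1 := by
    have h1 : (q - 1) * (q + 1) ≤ Nat.card N.range * (q + 1) :=
      hq2 ▸ hmul ▸ Nat.mul_le_mul_left _ hker
    exact le_antisymm hrange (Nat.le_of_mul_le_mul_right h1 (by omega))
  have hk : Nat.card N.ker = q + 1 := by
    rw [hr, hq2] at hmul
    exact Nat.eq_of_mul_eq_mul_left (by omega) hmul
  have heq : N.range = rootsOfUnity (q - 1) F :=
    Subgroup.eq_of_le_of_card_ge hle (hr ▸ hfix)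
  -- two distinct solutions of `x ^ (q + 1) = -1`
  have hm1 : (-1 : Fˣ) ∈ N.range := by
    rw [heq, mem_rootsOfUnity]
    refine Units.ext ?_
    have h1 : ((-1 : F)) ^ q = -1 := by rw [← hσ, map_neg, map_one]
    have h2 : ((-1 : F)) ^ (q - 1) * (-1) = 1 * (-1) := by
      rw [← pow_succ, Nat.sub_add_cancel (by omega), h1, one_mul]
    simpa using h2
  obtain ⟨e₁, he₁⟩ := hm1
  obtain ⟨z, hz⟩ : ∃ z : N.ker, z ≠ 1 := by
    haveI : Nontrivial N.ker := Finite.one_lt_card_iff_nontrivial.mp (by omega)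
    exact exists_ne 1
  obtain ⟨e₂, he₂, hne⟩ : ∃ e₂ : Fˣ, N e₂ = -1 ∧ e₂ ≠ e₁ := by
    refine ⟨e₁ * z.1, by rw [map_mul, he₁, z.2, mul_one], fun h => hz (Subtype.ext ?_)⟩
    simpa using h
  have n₁ : (e₁ : F) * σ e₁ = -1 := by
    rw [hσ, ← pow_succ']; simpa [N] using congrArg Units.val he₁
  have n₂ : (e₂ : F) * σ e₂ = -1 := by
    rw [hσ, ← pow_succ']; simpa [N] using congrArg Units.val he₂
  -- an element of trace zero
  obtain ⟨κ, hκ0, hκ⟩ : ∃ κ : F, κ ≠ 0 ∧ σ κ = -κ := by
    by_contra hcon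
    push Not at hcon
    have inj : Function.Injective fun x => x + σ x := by
      intro x y h
      by_contra hxy
      exact hcon (x - y) (sub_ne_zero.mpr hxy) (by rw [map_sub]; linear_combination h)
    have surj := Finite.surjective_of_injective inj
    have hall : ∀ x : F, x ∈ K := fun x => by
      obtain ⟨y, rfl⟩ := surj x
      rw [memK, map_add, hinv]
      ring
    have : (Finset.univ : Finset Fˣ).card ≤ q - 1 := by
      have hsub : (⊤ : Subgroup Fˣ) ≤ rootsOfUnity (q - 1) F := by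
        intro x _
        rw [mem_rootsOfUnity]
        refine Units.ext ?_
        have h1 : (x : F) ^ q = x := by rw [← hσ]; exact (memK _).mp (hall x)
        have h2 : (x : F) ^ (q - 1) * x = 1 * x := by
          rw [← pow_succ, Nat.sub_add_cancel (by omega), h1, one_mul]
        simpa using mul_right_cancel₀ x.ne_zero h2
      have := (Nat.card_le_card_of_injective _ (Subgroup.inclusion_injective hsub)).trans hfix
      rwa [Subgroup.card_top, Nat.card_eq_fintype_card, ← Finset.card_univ] at this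
    rw [Finset.card_univ, ← Nat.card_eq_fintype_card, hcard, hq2] at this
    have h2 : (q - 1) * 2 ≤ (q - 1) * (q + 1) := Nat.mul_le_mul_left _ (by omega)
    omega
  have hc : (1 : F) + e₁ * σ e₂ ≠ 0 := by
    intro h
    have h' : (e₁ : F) * σ e₂ = e₂ * σ e₂ := by linear_combination h - n₂
    have h0 : σ (e₂ : F) ≠ 0 := (map_ne_zero σ).mpr e₂.ne_zero
    exact hne (Units.ext (mul_right_cancel₀ h0 h').symm)
  obtain ⟨l, hl⟩ : ∃ l : F, σ l = κ / (1 + e₁ * σ e₂) := ⟨σ (κ / (1 + e₁ * σ e₂)), hinv _⟩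
  have hl0 : l ≠ 0 := by
    intro h
    rw [h, map_zero] at hl
    exact div_ne_zero hκ0 hc hl.symm
  let C : Matrix (Fin 2) (Fin 2) F := !![1, l; (e₁ : F), l * e₂]
  have hdet : IsUnit C.det := by
    rw [isUnit_iff_ne_zero, det_fin_two_of]
    intro h
    have : l * ((e₂ : F) - e₁) = 0 := by linear_combination h
    rcases mul_eq_zero.mp this with h | h
    · exact hl0 h
    · exact hne (Units.ext (sub_eq_zero.mp h))
  haveI : Invertible C := Matrix.invertibleOfIsUnitDet C hdet
  have hK : Cᵀ * C.map σ = !![0, κ; -κ, 0] := by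
    have d12 : σ l + (e₁ : F) * (σ l * σ e₂) = κ := by
      rw [hl]; field_simp
    have d21 : l + l * (e₂ : F) * σ e₁ = -κ := by
      rw [← hκ, ← d12, map_add, map_mul, map_mul, hinv, hinv]; ring
    ext i j
    fin_cases i <;> fin_cases j <;> simp [C, Matrix.mul_apply, Fin.sum_univ_two]
    · linear_combination n₁
    · exact d12
    · exact d21
    · linear_combination l * σ l * n₂
  let ψ : Matrix.SpecialLinearGroup (Fin 2) K →* Matrix.SpecialLinearGroup (Fin 2) F :=
    { toFun := fun g => ⟨C * (g : Matrix (Fin 2) (Fin 2) K).map K.subtype * ⅟C, by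
        rw [det_mul, det_mul, mul_right_comm, ← det_mul, mul_invOf_self, det_one, one_mul,
          ← RingHom.mapMatrix_apply, ← RingHom.map_det, g.det_coe, map_one]⟩
      map_one' := Subtype.ext (by simp)
      map_mul' := fun a b => Subtype.ext (by
        change C * ((a : Matrix (Fin 2) (Fin 2) K) * (b : Matrix (Fin 2) (Fin 2) K)).map K.subtype * ⅟C =
          (C * (a : Matrix (Fin 2) (Fin 2) K).map K.subtype * ⅟C) *
            (C * (b : Matrix (Fin 2) (Fin 2) K).map K.subtype * ⅟C)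
        rw [Matrix.map_mul]
        simp [Matrix.mul_assoc]) }
  have cψ : ∀ g, (ψ g : Matrix (Fin 2) (Fin 2) F) =
      C * (g : Matrix (Fin 2) (Fin 2) K).map K.subtype * ⅟C := fun _ => rfl
  have hsymp : ∀ g, (ψ g : Matrix (Fin 2) (Fin 2) F)ᵀ * (ψ g : Matrix (Fin 2) (Fin 2) F).map σ = 1 := by
    intro g
    set h : Matrix (Fin 2) (Fin 2) F := (g : Matrix (Fin 2) (Fin 2) K).map K.subtype with hh
    have hfixed : h.map σ = h := by
      ext i j
      exact (g.1 i j).2
    have hd : h.det = 1 := by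
      rw [hh, ← RingHom.mapMatrix_apply, ← RingHom.map_det, g.det_coe, map_one]
    have hmid : hᵀ * !![0, κ; -κ, 0] * h = !![0, κ; -κ, 0] := by
      rw [det_fin_two] at hd
      ext i j
      fin_cases i <;> fin_cases j <;> simp [Matrix.mul_apply, Fin.sum_univ_two]
      · ring
      · linear_combination κ * hd
      · linear_combination -κ * hd
      · ring
    have hinvC : C.map σ * (⅟C).map σ = 1 := by
      rw [← Matrix.map_mul, mul_invOf_self, Matrix.map_one _ (map_zero σ) (map_one σ)]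
    rw [cψ, transpose_mul, transpose_mul, Matrix.map_mul, Matrix.map_mul, hfixed]
    calc (⅟C)ᵀ * (hᵀ * Cᵀ) * (C.map σ * h * (⅟C).map σ)
        = (⅟C)ᵀ * (hᵀ * (Cᵀ * C.map σ) * h) * (⅟C).map σ := by simp only [Matrix.mul_assoc]
      _ = (⅟C)ᵀ * (Cᵀ * C.map σ) * (⅟C).map σ := by rw [hK, hmid]
      _ = ((⅟C)ᵀ * Cᵀ) * (C.map σ * (⅟C).map σ) := by simp only [Matrix.mul_assoc]
      _ = 1 := by rw [hinvC, ← transpose_mul, mul_invOf_self, transpose_one, one_mul]
  refine ⟨K, (slTwoEmbed F hn).comp ψ, ?_, (slTwoEmbed_injective F hn).comp ?_, fun g => ?_⟩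
  · refine le_trans hr.ge (Nat.card_le_card_of_injective
      (fun x : N.range => (⟨((x : Fˣ) : F), ?_⟩ : K)) ?_)
    · have hx := (mem_rootsOfUnity _ _).mp (hle x.2)
      rw [memK, hσ, show q = (q - 1) + 1 by omega, pow_succ, ← Units.val_pow_eq_pow_val, hx]
      simp
    · intro a b h
      exact Subtype.ext (Units.ext (congrArg Subtype.val h))
  · intro a b h
    have h' := congrArg (fun M : Matrix.SpecialLinearGroup (Fin 2) F => ⅟C * (M : Matrix (Fin 2) (Fin 2) F) * C) h
    simp only [cψ, Matrix.mul_assoc, invOf_mul_self, Matrix.mul_one] at h'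
    simp only [← Matrix.mul_assoc, invOf_mul_self, Matrix.one_mul] at h'
    exact Subtype.ext (Matrix.map_injective Subtype.val_injective h')
  · refine mem_su_of_transpose_mul n q σ hσ _ ?_
    rw [MonoidHom.comp_apply, coe_slTwoEmbed, transpose_submatrix, fromBlocks_transpose,
      ← submatrix_map, fromBlocks_map, submatrix_mul_equiv, fromBlocks_multiply]
    simp [hsymp g, submatrix_one_equiv]

end SU

end CfsgLib.Laws
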