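import Cfsg.Agent.Lib.Laws.SLTwo

set_option autoImplicit false

/-! A non-trivial word is not a law in alternating groups of large degree. -/

namespace CfsgLib.Laws

open Equiv

/-- The doubled regular representation of a finite group by even permutations. -/
theorem exists_hom_alternating (H : Type*) [Group H] [Fintype H] (n : ℕ) (hn : 2 * Fintype.card H ≤ n) :
    ∃ φ : H →* alternatingGroup (Fin n), Function.Injective φ := by
  classical
  let f : H ⊕ H ↪ Fin n := (Function.Embedding.trans
    (Fintype.equivFin (H ⊕ H)).toEmbedding (Fin.castLEEmb (by simp; omega)))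
  let d : H →* Perm (H ⊕ H) := (Perm.sumCongrHom H H).comp
    ((MulAction.toPermHom H H).prod (MulAction.toPermHom H H))
  let ψ : H →* Perm (Fin n) :=
    (Perm.viaEmbeddingHom f).comp d
  have hs : ∀ h, ψ h ∈ alternatingGroup (Fin n) := by
    intro h
    rw [Perm.mem_alternatingGroup]
    change Perm.sign (Perm.viaEmbedding (d h) f) = 1
    rw [Perm.viaEmbedding, Perm.sign_extendDomain]
    change Perm.sign (Equiv.sumCongr _ _) = 1
    rw [Perm.sign_sumCongr]
    exact Int.units_mul_self _
  refine ⟨ψ.codRestrict _ hs, ?_⟩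
  rw [MonoidHom.injective_codRestrict]
  refine (Perm.viaEmbeddingHom_injective f).comp ((Perm.sumCongrHom_injective).comp ?_)
  intro a b h
  exact MulAction.toPerm_injective (congrArg Prod.fst h)

/-- The degree beyond which a word is not a law in alternating groups. -/
theorem exists_alternating_bound (w : FreeGroup ℕ) (hw : w ≠ 1) :
    ∃ N : ℕ, 5 ≤ N ∧ ∀ n : ℕ, N ≤ n →
      ∃ f : ℕ → alternatingGroup (Fin n), FreeGroup.lift f w ≠ 1 := by
  classical
  obtain ⟨p, hp, hprime⟩ := Nat.exists_infinite_primes (slBound w)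
  haveI : Fact p.Prime := ⟨hprime⟩
  obtain ⟨f, hf⟩ := exists_sl_two_lift_not_central w hw (ZMod p) (by rwa [ZMod.card])
  refine ⟨2 * Fintype.card (Matrix.SpecialLinearGroup (Fin 2) (ZMod p)) + 5, by omega, fun n hn => ?_⟩
  obtain ⟨φ, hφ⟩ := exists_hom_alternating (Matrix.SpecialLinearGroup (Fin 2) (ZMod p)) n (by omega)
  refine ⟨fun i => φ (f i), fun h => hf ?_⟩
  have e : FreeGroup.lift (fun i => φ (f i)) = φ.comp (FreeGroup.lift f) := by ext i; simp
  rw [e, MonoidHom.comp_apply] at h
  rw [(map_eq_one_iff φ hφ).mp h]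
  exact one_mem _

end CfsgLib.Laws
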