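import Cfsg.Agent.Lib.Laws.Alternating
import Cfsg.Agent.Lib.Laws.Embed

set_option autoImplicit false

/-! A non-trivial word fails in every classical group of large rank or over a large field. -/

namespace CfsgLib.Laws

open Cfsg

/-- The bound on the order of a classical group in which a word with parameters `N₀`, `Q₀` can be a law. -/
def classBound (N₀ Q₀ : ℕ) : ℕ := N₀.factorial + ((Q₀ + 1) ^ 2) ^ ((2 * N₀ + 4) * (2 * N₀ + 4))

theorem card_le_classBound {N₀ Q₀ : ℕ} {F : Type} [Field F] [Fintype F] {ι : Type} [Fintype ι]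
    [DecidableEq ι] (hι : Fintype.card ι ≤ 2 * N₀ + 4) (hq : Fintype.card F ≤ (Q₀ + 1) ^ 2)
    {α : Type} (j : α → Matrix ι ι F) (hj : Function.Injective j) {β : Type*} (s : α → β)
    (hs : Function.Surjective s) : Nat.card β ≤ classBound N₀ Q₀ := by
  classical
  haveI : Finite α := Finite.of_injective j hj
  refine le_trans (Nat.card_le_card_of_surjective s hs) (le_trans (Nat.card_le_card_of_injective j hj) ?_)
  rw [show Nat.card (Matrix ι ι F) = Nat.card (ι → ι → F) from rfl, Nat.card_eq_fintype_card,
    Fintype.card_fun, Fintype.card_fun, ← pow_mul]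
  refine le_trans ?_ (Nat.le_add_left _ _)
  exact le_trans (Nat.pow_le_pow_left hq _) (Nat.pow_le_pow_right (by positivity) (Nat.mul_le_mul hι hι))

variable {w : FreeGroup ℕ}

/-- A word that is a law in `C / Z(C)` is a law, modulo the centre, in any group mapping injectively to `C`. -/
theorem false_of_law {G₀ C G : Type*} [Group G₀] [Group C] [Group G]
    (hlaw : ∀ f : ℕ → G, FreeGroup.lift f w = 1)
    (h : ∃ f : ℕ → G₀, FreeGroup.lift f w ∉ Subgroup.center G₀) (φ : G₀ →* C)
    (hφ : Function.Injective φ) (e : G ≃* C ⧸ Subgroup.center C) : False := by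
  obtain ⟨f, hf⟩ := h
  obtain ⟨g, hg⟩ := not_law_quotient_center w f hf φ hφ e
  exact hg (hlaw g)

theorem alternating_noncentral {n : ℕ} (hn : 5 ≤ n)
    (h : ∃ f : ℕ → alternatingGroup (Fin n), FreeGroup.lift f w ≠ 1) :
    commutator (alternatingGroup (Fin n)) = ⊤ ∧
      ∃ f : ℕ → alternatingGroup (Fin n), FreeGroup.lift f w ∉ Subgroup.center (alternatingGroup (Fin n)) := by
  obtain ⟨f, hf⟩ := h
  refine ⟨commutator_alternatingGroup_eq_top (by simpa using hn), f, fun hc => hf ?_⟩
  have hbot : Subgroup.center (alternatingGroup (Fin n)) = ⊥ :=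
    alternatingGroup.center_eq_bot (by simp; omega)
  rwa [hbot, Subgroup.mem_bot] at hc

end CfsgLib.Laws
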