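import Mathlib

set_option autoImplicit false

/-!
A ping-pong criterion showing that a reduced word takes a value moving a base point, and its
polynomial-degree instance: for matrices over `F[X]` the corner entry of the value is a non-zero
polynomial of small degree, so it survives evaluation at some point of a large finite field.
-/

namespace CfsgLib.Laws

open Polynomial
open scoped Matrix

section Abstract

variable {Γ Ω P : Type*} [Group Γ] [MulAction Γ Ω] [AddCommGroup P]
variable (a : ℕ → P) (d c : P)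

/-- Left part of a letter. -/
def lPart : ℕ × Bool → P
  | (i, true) => a i
  | (i, false) => a i - d

/-- Middle part of a letter. -/
def mPart : ℕ × Bool → P
  | (_, true) => c
  | (_, false) => -c

/-- Right part of a letter. -/
def rPart : ℕ × Bool → P
  | (i, true) => d - a i
  | (i, false) => -a i

/-- The element substituted for the `i`-th generator. -/
def pgen (u : Multiplicative P →* Γ) (w : Γ) (i : ℕ) : Γ :=
  u (.ofAdd (a i)) * w * u (.ofAdd c) * w⁻¹ * u (.ofAdd (d - a i))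

theorem cond_pgen (u : Multiplicative P →* Γ) (w : Γ) (l : ℕ × Bool) :
    cond l.2 (pgen a d c u w l.1) (pgen a d c u w l.1)⁻¹ =
      u (.ofAdd (lPart a d l)) * w * u (.ofAdd (mPart c l)) * w⁻¹ * u (.ofAdd (rPart a d l)) := by
  obtain ⟨i, b⟩ := l
  cases b
  · have e1 : (u (.ofAdd (d - a i)))⁻¹ = u (.ofAdd (a i - d)) := by
      rw [← map_inv, ← ofAdd_neg, neg_sub]
    simp only [cond_false, pgen, mul_inv_rev, inv_inv, lPart, mPart, rPart, e1, ← map_inv, ← ofAdd_neg,
      mul_assoc]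
  · rfl

theorem pingpong (u : Multiplicative P →* Γ) (w : Γ) (x0 : Ω) (L S : ℕ → Set Ω) (Good : P → Prop)
    (hx : x0 ∈ L 0) (hfix : ∀ p, u p • x0 = x0)
    (hw : ∀ n, ∀ x ∈ L n, w • x ∈ S n) (hw' : ∀ n, ∀ x ∈ L n, w⁻¹ • x ∈ S n)
    (hgood : ∀ p, Good p → ∀ n, ∀ x ∈ S n, u (.ofAdd p) • x ∈ L (n + 1)) :
    ∀ (t : List (ℕ × Bool)) (l : ℕ × Bool),
      (∀ l' ∈ l :: t, Good (mPart c l')) →
      (∀ l₁ ∈ l :: t, ∀ l₂ ∈ l :: t, (l₁.1 = l₂.1 → l₁.2 = l₂.2) → Good (rPart a d l₁ + lPart a d l₂)) →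
      FreeGroup.IsReduced (l :: t) →
      ∃ n ≤ 2 * (l :: t).length, ∃ y ∈ S n,
        FreeGroup.lift (pgen a d c u w) (FreeGroup.mk (l :: t)) • x0 = u (.ofAdd (lPart a d l)) • y := by
  intro t
  induction t with
  | nil =>
    intro l hm _ _
    refine ⟨1, by simp, w • u (.ofAdd (mPart c l)) • w⁻¹ • x0,
      hw _ _ (hgood _ (hm l (by simp)) _ _ (hw' _ _ hx)), ?_⟩
    rw [FreeGroup.lift_mk]
    simp only [List.map_cons, List.map_nil, List.prod_cons, List.prod_nil, mul_one, cond_pgen, mul_smul,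
      hfix]
  | cons l' t ih =>
    intro l hm hr hred
    obtain ⟨hll', hred'⟩ := List.isChain_cons_cons.mp hred
    obtain ⟨n, hn, y, hy, he⟩ := ih l' (fun x hx => hm x (List.mem_cons_of_mem _ hx))
      (fun x hx z hz => hr x (List.mem_cons_of_mem _ hx) z (List.mem_cons_of_mem _ hz)) hred'
    have h1 := hgood _ (hr l (by simp) l' (by simp) hll') n y hy
    refine ⟨n + 2, by simp only [List.length_cons] at hn ⊢; omega,
      w • u (.ofAdd (mPart c l)) • w⁻¹ • u (.ofAdd (rPart a d l + lPart a d l')) • y,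
      hw _ _ (hgood _ (hm l (by simp)) _ _ (hw' _ _ h1)), ?_⟩
    rw [FreeGroup.lift_mk] at he ⊢
    rw [List.map_cons, List.prod_cons, mul_smul, he, cond_pgen, ofAdd_add, map_mul]
    simp only [mul_smul]

end Abstract

section Poly

variable {F : Type*} [Field F]

/-- Vectors whose `t` coordinate has degree at most `k` and strictly dominates the others. -/
def Dom {ι : Type*} (t : ι) (k : ℕ) : Set (ι → F[X]) :=
  {v | v t ≠ 0 ∧ (v t).natDegree ≤ k ∧ ∀ i, i ≠ t → (v i).degree < (v t).degree}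

theorem dom_single {ι : Type*} [DecidableEq ι] (t : ι) (k : ℕ) :
    Pi.single t (1 : F[X]) ∈ Dom t k := by
  refine ⟨by simp, by simp, fun i hi => ?_⟩
  rw [Pi.single_eq_of_ne hi, Pi.single_eq_same, degree_zero, degree_one]
  exact WithBot.bot_lt_coe 0

/-- A bound on the size of the generators and of the word. -/
def letterBound (w : FreeGroup ℕ) : ℕ := (w.toWord.map Prod.fst).sum + 2

theorem le_letterBound {w : FreeGroup ℕ} {l : ℕ × Bool} (h : l ∈ w.toWord) :
    l.1 + 2 ≤ letterBound w := by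
  have := List.single_le_sum (fun x _ => Nat.zero_le x) _ (List.mem_map_of_mem (f := Prod.fst) h)
  unfold letterBound
  omega

theorem natDegree_pow_sub_pow {i j : ℕ} (h : i ≠ j) :
    ((X : F[X]) ^ i - X ^ j).natDegree = max i j := by
  rcases Nat.lt_or_gt_of_ne h with h | h
  · rw [natDegree_sub_eq_right_of_natDegree_lt (by simpa using h)]
    simp [h.le]
  · rw [natDegree_sub_eq_left_of_natDegree_lt (by simpa using h)]
    simp [h.le]

/-- Non-constant polynomials of degree at most `M`. -/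
def GoodPoly (M : ℕ) (p : F[X]) : Prop := 0 < p.natDegree ∧ p.natDegree ≤ M

theorem goodPoly_m {M : ℕ} (hM : 1 ≤ M) (l : ℕ × Bool) : GoodPoly M (mPart (X : F[X]) l) := by
  obtain ⟨i, b⟩ := l
  cases b <;> simp [mPart, GoodPoly, hM]

theorem goodPoly_join {M : ℕ} (l₁ l₂ : ℕ × Bool) (h₁ : l₁.1 + 2 ≤ M) (h₂ : l₂.1 + 2 ≤ M)
    (h : l₁.1 = l₂.1 → l₁.2 = l₂.2) :
    GoodPoly M (rPart (fun i => (X : F[X]) ^ (i + 2)) X l₁ + lPart (fun i => (X : F[X]) ^ (i + 2)) X l₂) := by
  obtain ⟨i, b⟩ := l₁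
  obtain ⟨j, b'⟩ := l₂
  simp only at h₁ h₂ h
  by_cases hij : i = j
  · obtain rfl := h hij
    subst hij
    cases b
    · have : rPart (fun i => (X : F[X]) ^ (i + 2)) X (i, false) + lPart (fun i => (X : F[X]) ^ (i + 2)) X (i, false) = -X := by
        simp only [rPart, lPart]; ring
      rw [this]
      simp [GoodPoly]; omega
    · simp [rPart, lPart, GoodPoly]; omega
  · have hd : ((X : F[X]) ^ (j + 2) - X ^ (i + 2)).natDegree = max (j + 2) (i + 2) :=
      natDegree_pow_sub_pow (by omega)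
    have h1 : (X : F[X]).natDegree < ((X : F[X]) ^ (j + 2) - X ^ (i + 2)).natDegree := by
      rw [hd, natDegree_X]; omega
    have e : ∀ p : F[X], p = X ^ (j + 2) - X ^ (i + 2) + X ∨ p = X ^ (j + 2) - X ^ (i + 2) - X ∨
        p = X ^ (j + 2) - X ^ (i + 2) → GoodPoly M p := by
      rintro p (rfl | rfl | rfl)
      · rw [GoodPoly, natDegree_add_eq_left_of_natDegree_lt h1, hd]; omega
      · rw [GoodPoly, natDegree_sub_eq_left_of_natDegree_lt h1, hd]; omega
      · rw [GoodPoly, hd]; omega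
    apply e
    cases b <;> cases b' <;> simp only [rPart, lPart] <;>
      first
        | (left; ring; done)
        | (right; left; ring; done)
        | (right; right; ring; done)

/-- In a matrix group over `F[X]` satisfying the degree hypotheses, a non-trivial word has a value
whose corner entry is a non-zero polynomial of bounded degree. -/
theorem exists_corner_entry {ι : Type*} [Fintype ι] [DecidableEq ι] {Γ : Type*} [Group Γ]
    (φ : Γ →* Matrix ι ι F[X]) (u : Multiplicative F[X] →* Γ) (w₀ : Γ) (t b : ι) (E : ℕ)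
    (hfix : ∀ p, φ (u p) *ᵥ Pi.single t 1 = Pi.single t 1)
    (hbot : ∀ p v, (φ (u p) *ᵥ v) b = v b)
    (hw : ∀ k, ∀ v ∈ Dom (F := F) t k, φ w₀ *ᵥ v ∈ Dom b k)
    (hw' : ∀ k, ∀ v ∈ Dom (F := F) t k, φ w₀⁻¹ *ᵥ v ∈ Dom b k)
    (M : ℕ)
    (hstep : ∀ p, GoodPoly M p → ∀ k, ∀ v ∈ Dom b k, φ (u (.ofAdd p)) *ᵥ v ∈ Dom t (k + E))
    (w : FreeGroup ℕ) (hne : w ≠ 1) (hM : letterBound w ≤ M) :
    φ (FreeGroup.lift (pgen (fun i => (X : F[X]) ^ (i + 2)) X X u w₀) w) b t ≠ 0 ∧
      (φ (FreeGroup.lift (pgen (fun i => (X : F[X]) ^ (i + 2)) X X u w₀) w) b t).natDegree ≤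
        2 * w.toWord.length * E := by
  classical
  let act : MulAction Γ (ι → F[X]) :=
    { smul := fun g v => φ g *ᵥ v
      one_smul := fun v => by change φ 1 *ᵥ v = v; rw [map_one, Matrix.one_mulVec]
      mul_smul := fun g h v => by
        change φ (g * h) *ᵥ v = φ g *ᵥ (φ h *ᵥ v)
        rw [map_mul, Matrix.mulVec_mulVec] }
  have hne' : w.toWord ≠ [] := fun h => hne (FreeGroup.toWord_eq_nil_iff.mp h)
  obtain ⟨l, rest, hlr⟩ := List.exists_cons_of_ne_nil hne'
  obtain ⟨n, hn, y, hy, he⟩ := @pingpong Γ (ι → F[X]) F[X] _ act _ (fun i => X ^ (i + 2)) X X u w₀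
    (Pi.single t 1) (fun n => Dom t (n * E)) (fun n => Dom b (n * E)) (GoodPoly M)
    (dom_single t _) hfix (fun n => hw _) (fun n => hw' _)
    (fun p hp n v hv => by
      have := hstep p hp _ v hv
      rwa [Nat.succ_mul])
    rest l (fun l' _ => goodPoly_m (by unfold letterBound at hM; omega) l')
    (fun l₁ h₁ l₂ h₂ h => goodPoly_join l₁ l₂ (le_trans (le_letterBound (hlr ▸ h₁)) hM)
      (le_trans (le_letterBound (hlr ▸ h₂)) hM) h)
    (hlr ▸ FreeGroup.isReduced_toWord)
  rw [← hlr, FreeGroup.mk_toWord] at he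
  have he' : φ (FreeGroup.lift (pgen (fun i => (X : F[X]) ^ (i + 2)) X X u w₀) w) b t = y b := by
    have h1 := congrFun he b
    change (φ _ *ᵥ Pi.single t 1) b = (φ _ *ᵥ y) b at h1
    rw [hbot, Matrix.mulVec_single_one] at h1
    exact h1
  rw [he']
  refine ⟨hy.1, le_trans hy.2.1 ?_⟩
  rw [hlr]
  exact Nat.mul_le_mul_right _ hn

/-- A non-zero polynomial of degree below the size of the field has a non-root. -/
theorem exists_eval_ne_zero [Fintype F] {p : F[X]} (hp : p ≠ 0) (hd : p.natDegree < Fintype.card F) :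
    ∃ x : F, p.eval x ≠ 0 := by
  classical
  by_contra h
  push Not at h
  have h1 : (Finset.univ : Finset F) ⊆ p.roots.toFinset := fun x _ => by
    rw [Multiset.mem_toFinset, mem_roots hp]; exact h x
  have h2 := (Finset.card_le_card h1).trans (p.roots.toFinset_card_le.trans p.card_roots')
  rw [Finset.card_univ] at h2
  omega

end Poly

end CfsgLib.Laws
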