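import Cfsg.Agent.Lib.Laws.PingPong

set_option autoImplicit false

/-! A non-trivial word has a non-scalar value in `SL₂` over every large enough finite field. -/

namespace CfsgLib.Laws

open Polynomial Matrix

variable {R : Type*} [CommRing R]

/-- Upper unitriangular element of `SL₂`, as a single element. -/
def slUElt (r : R) : SpecialLinearGroup (Fin 2) R := ⟨!![1, r; 0, 1], by simp [Matrix.det_fin_two]⟩

theorem coe_slUElt (r : R) : (slUElt r : Matrix (Fin 2) (Fin 2) R) = !![1, r; 0, 1] := rfl

/-- Upper unitriangular elements of `SL₂`. -/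
def slU : Multiplicative R →* SpecialLinearGroup (Fin 2) R where
  toFun p := slUElt (Multiplicative.toAdd p)
  map_one' := Subtype.ext (by
    rw [coe_slUElt]; ext i j; fin_cases i <;> fin_cases j <;> simp)
  map_mul' p q := Subtype.ext (by
    rw [Matrix.SpecialLinearGroup.coe_mul, coe_slUElt, coe_slUElt, coe_slUElt]
    ext i j
    fin_cases i <;> fin_cases j <;> simp [Matrix.mul_apply, Fin.sum_univ_two, add_comm])

theorem coe_slU (p : Multiplicative R) :
    (slU p : Matrix (Fin 2) (Fin 2) R) = !![1, Multiplicative.toAdd p; 0, 1] := rfl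

/-- The Weyl element of `SL₂`. -/
def slW : SpecialLinearGroup (Fin 2) R := ⟨!![0, -1; 1, 0], by simp [Matrix.det_fin_two]⟩

theorem coe_slW : ((slW : SpecialLinearGroup (Fin 2) R) : Matrix (Fin 2) (Fin 2) R) = !![0, -1; 1, 0] := rfl

theorem coe_slW_inv :
    ((slW⁻¹ : SpecialLinearGroup (Fin 2) R) : Matrix (Fin 2) (Fin 2) R) = !![0, 1; -1, 0] := by
  rw [Matrix.SpecialLinearGroup.coe_inv, coe_slW, Matrix.adjugate_fin_two]
  simp

/-- The bound used for `SL₂`. -/
def slBound (w : FreeGroup ℕ) : ℕ := 2 * w.toWord.length * letterBound w + 4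

theorem exists_sl_two_lift_not_scalar (w : FreeGroup ℕ) (hw : w ≠ 1) (F : Type*) [Field F]
    [Fintype F] (hF : slBound w ≤ Fintype.card F) :
    ∃ f : ℕ → SpecialLinearGroup (Fin 2) F, (FreeGroup.lift f w).1 1 0 ≠ 0 := by
  classical
  let φ : SpecialLinearGroup (Fin 2) F[X] →* Matrix (Fin 2) (Fin 2) F[X] :=
    { toFun := fun g => g.1, map_one' := rfl, map_mul' := fun _ _ => rfl }
  have hU : ∀ (p : Multiplicative F[X]) (v : Fin 2 → F[X]),
      φ (slU p) *ᵥ v = ![v 0 + Multiplicative.toAdd p * v 1, v 1] := by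
    intro p v
    ext i : 1
    fin_cases i <;> simp [φ, coe_slU, Matrix.mulVec, dotProduct, Fin.sum_univ_two]
  obtain ⟨h1, h2⟩ := exists_corner_entry φ slU slW (0 : Fin 2) 1 (letterBound w)
    (fun p => by rw [hU]; ext i : 1; fin_cases i <;> simp)
    (fun p v => by rw [hU]; simp)
    (fun k v hv => by
      obtain ⟨a, b, c⟩ := hv
      have e : φ (slW) *ᵥ v = ![-v 1, v 0] := by
        ext i : 1
        fin_cases i <;> simp [φ, coe_slW, Matrix.mulVec, dotProduct, Fin.sum_univ_two]
      rw [e]
      refine ⟨by simpa using a, by simpa using b, fun i hi => ?_⟩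
      fin_cases i
      · simpa using c 1 (by decide)
      · exact absurd rfl hi)
    (fun k v hv => by
      obtain ⟨a, b, c⟩ := hv
      have e : φ (slW⁻¹) *ᵥ v = ![v 1, -v 0] := by
        ext i : 1
        fin_cases i <;> simp [φ, coe_slW, Matrix.adjugate_fin_two, Matrix.mulVec, dotProduct, Fin.sum_univ_two]
      rw [e]
      refine ⟨by simpa using a, by simpa using b, fun i hi => ?_⟩
      fin_cases i
      · simpa using c 1 (by decide)
      · exact absurd rfl hi)
    (letterBound w)
    (fun p hp k v hv => by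
      obtain ⟨a, b, c⟩ := hv
      obtain ⟨hp1, hp2⟩ := hp
      have hp0 : p ≠ 0 := fun h => by simp [h] at hp1
      rw [hU]
      simp only [toAdd_ofAdd]
      have d1 : (v 1).degree < (p * v 1).degree := by
        rw [degree_mul, degree_eq_natDegree hp0, degree_eq_natDegree a, ← Nat.cast_add]
        exact_mod_cast Nat.lt_add_of_pos_left hp1
      have d0 : (v 0).degree < (p * v 1).degree := lt_trans (c 0 (by decide)) d1
      have e1 : (v 0 + p * v 1).degree = (p * v 1).degree := degree_add_eq_right_of_degree_lt d0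
      have n0 : v 0 + p * v 1 ≠ 0 := fun h => by
        rw [h, degree_zero] at e1
        exact mul_ne_zero hp0 a (degree_eq_bot.mp e1.symm)
      refine ⟨by simpa using n0, ?_, fun i hi => ?_⟩
      · have : (v 0 + p * v 1).natDegree = (p * v 1).natDegree := natDegree_eq_of_degree_eq e1
        simp only [Matrix.cons_val_zero, this, natDegree_mul hp0 a]
        omega
      · fin_cases i
        · exact absurd rfl hi
        · simpa [e1] using d1)
    w hw le_rfl
  obtain ⟨x, hx⟩ := exists_eval_ne_zero h1
    (lt_of_le_of_lt h2 (by unfold slBound at hF; omega))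
  let g := pgen (fun i => (X : F[X]) ^ (i + 2)) X X (slU (R := F[X])) slW
  refine ⟨fun i => SpecialLinearGroup.map (evalRingHom x) (g i), ?_⟩
  have : FreeGroup.lift (fun i => SpecialLinearGroup.map (evalRingHom x) (g i)) w =
      SpecialLinearGroup.map (evalRingHom x) (FreeGroup.lift g w) := by
    have h : FreeGroup.lift (fun i => SpecialLinearGroup.map (evalRingHom x) (g i)) =
        (SpecialLinearGroup.map (evalRingHom x)).comp (FreeGroup.lift g) := by
      ext i; simp
    rw [h]; rfl
  rw [this]
  exact hx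

/-- A non-trivial word has a non-central value in `SL₂` over every large enough finite field. -/
theorem exists_sl_two_lift_not_central (w : FreeGroup ℕ) (hw : w ≠ 1) (F : Type*) [Field F]
    [Fintype F] (hF : slBound w ≤ Fintype.card F) :
    ∃ f : ℕ → SpecialLinearGroup (Fin 2) F,
      FreeGroup.lift f w ∉ Subgroup.center (SpecialLinearGroup (Fin 2) F) := by
  obtain ⟨f, hf⟩ := exists_sl_two_lift_not_scalar w hw F hF
  refine ⟨f, fun h => hf ?_⟩
  obtain ⟨r, -, hr⟩ := Matrix.SpecialLinearGroup.mem_center_iff.mp h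
  rw [← hr]
  simp

end CfsgLib.Laws
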