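import Cfsg.Agent.Lib.Laws.PingPong
import Cfsg.Agent.Lib.Suzuki.Finite

set_option autoImplicit false

/-! A non-trivial word has a non-trivial value in every large enough Suzuki group. -/

namespace CfsgLib.Laws

open Polynomial Matrix CfsgLib.Suzuki
open scoped MatrixGroups

variable {F : Type*} [Field F] [CharP F 2]

/-- `szU` with first parameter `0`, over the polynomial ring, with `θ` replaced by the power `2 ^ j`. -/
noncomputable def polyZMat (j : ℕ) (p : F[X]) : Matrix (Fin 4) (Fin 4) F[X] :=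
  !![1, 0, p, p ^ 2 ^ j; 0, 1, 0, p; 0, 0, 1, 0; 0, 0, 0, 1]

theorem polyZMat_mul (j : ℕ) (p q : F[X]) : polyZMat j p * polyZMat j q = polyZMat j (p + q) := by
  haveI := Fact.mk Nat.prime_two
  ext a b : 1
  fin_cases a <;> fin_cases b <;>
    simp [polyZMat, Matrix.mul_apply, Fin.sum_univ_four, add_pow_char_pow, add_comm]

theorem polyZMat_zero (j : ℕ) : polyZMat j (0 : F[X]) = 1 := by
  ext a b : 1
  fin_cases a <;> fin_cases b <;> simp [polyZMat]

/-- `polyZMat` as a homomorphism. -/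
noncomputable def polyZ (j : ℕ) : Multiplicative F[X] →* GL (Fin 4) F[X] :=
  MonoidHom.toHomUnits
    { toFun := fun p => polyZMat j (Multiplicative.toAdd p)
      map_one' := polyZMat_zero j
      map_mul' := fun p q => (polyZMat_mul j _ _).symm }

theorem coe_polyZ (j : ℕ) (p : Multiplicative F[X]) :
    (polyZ j p : Matrix (Fin 4) (Fin 4) F[X]) = polyZMat j (Multiplicative.toAdd p) := rfl

/-- The Weyl element over the polynomial ring. -/
noncomputable def polyW (F : Type*) [Field F] : GL (Fin 4) F[X] :=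
  ⟨(szJ F).map C, (szJ F).map C, by
    rw [← Matrix.map_mul, szJ_mul_szJ, Matrix.map_one _ (map_zero C) (map_one C)], by
    rw [← Matrix.map_mul, szJ_mul_szJ, Matrix.map_one _ (map_zero C) (map_one C)]⟩

theorem degree_step {j M : ℕ} (hj : 1 ≤ j) {p : F[X]} (hp : GoodPoly M p) (k : ℕ) {v : Fin 4 → F[X]}
    (hv : v ∈ Dom (3 : Fin 4) k) : polyZMat j p *ᵥ v ∈ Dom (0 : Fin 4) (k + M * 2 ^ j) := by
  obtain ⟨a, b, c⟩ := hv
  obtain ⟨hp1, hp2⟩ := hp
  have hp0 : p ≠ 0 := fun h => by simp [h] at hp1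
  have e : polyZMat j p *ᵥ v = ![v 0 + p * v 2 + p ^ 2 ^ j * v 3, v 1 + p * v 3, v 2, v 3] := by
    ext i : 1
    fin_cases i <;> simp [polyZMat, Matrix.mulVec, dotProduct, Fin.sum_univ_four]
  rw [e]
  have h2j : 2 ≤ 2 ^ j := by simpa using Nat.pow_le_pow_right (show 1 ≤ 2 by norm_num) hj
  have hpe : (p ^ 2 ^ j) ≠ 0 := pow_ne_zero _ hp0
  have htop : (p ^ 2 ^ j * v 3).degree = ((2 ^ j * p.natDegree + (v 3).natDegree : ℕ) : WithBot ℕ) := by
    rw [degree_eq_natDegree (mul_ne_zero hpe a), natDegree_mul hpe a, natDegree_pow]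
  have hmid : ∀ u : F[X], u.degree ≤ (v 3).degree →
      (p * u).degree < (p ^ 2 ^ j * v 3).degree := by
    intro u hu
    rw [degree_mul, htop, degree_eq_natDegree hp0]
    calc (p.natDegree : WithBot ℕ) + u.degree ≤ (p.natDegree : WithBot ℕ) + (v 3).degree :=
          add_le_add le_rfl hu
      _ < _ := by
        rw [degree_eq_natDegree a, ← Nat.cast_add, Nat.cast_lt]
        nlinarith
  have hlow : ∀ u : F[X], u.degree ≤ (v 3).degree → u.degree < (p ^ 2 ^ j * v 3).degree := by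
    intro u hu
    refine lt_of_le_of_lt hu ?_
    rw [htop, degree_eq_natDegree a, Nat.cast_lt]
    nlinarith
  have d0 : (v 0 + p * v 2).degree < (p ^ 2 ^ j * v 3).degree :=
    lt_of_le_of_lt (degree_add_le _ _)
      (max_lt (hlow _ (c 0 (by decide)).le) (hmid _ (c 2 (by decide)).le))
  have e1 := degree_add_eq_right_of_degree_lt d0
  have n0 : v 0 + p * v 2 + p ^ 2 ^ j * v 3 ≠ 0 := fun h => by
    rw [h, degree_zero] at e1
    exact mul_ne_zero hpe a (degree_eq_bot.mp e1.symm)
  refine ⟨by simpa using n0, ?_, fun i hi => ?_⟩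
  · simp only [Matrix.cons_val_zero, natDegree_eq_of_degree_eq e1, natDegree_mul hpe a, natDegree_pow]
    nlinarith
  · fin_cases i
    · exact absurd rfl hi
    · simpa [e1] using lt_of_le_of_lt (degree_add_le _ _)
        (max_lt (hlow _ (c 1 (by decide)).le) (hmid _ le_rfl))
    · simpa [e1] using hlow _ (c 2 (by decide)).le
    · simpa [e1] using hlow _ le_rfl

/-- The bound on `m` used for the Suzuki groups. -/
def szBound (w : FreeGroup ℕ) : ℕ := 2 * w.toWord.length * letterBound w + 1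

omit [CharP F 2] in
theorem exists_sz_lift_ne_one (w : FreeGroup ℕ) (hw : w ≠ 1) [Fintype F] {m : ℕ}
    (hm : szBound w ≤ m) (hF : Fintype.card F = 2 ^ (2 * m + 1)) :
    ∃ f : ℕ → Cfsg.Lie.Sz F (2 ^ (m + 1)), FreeGroup.lift f w ≠ 1 := by
  classical
  haveI := charP_two_of_card hF
  obtain ⟨θ, hθe, hθ⟩ := exists_theta hF
  let φ : GL (Fin 4) F[X] →* Matrix (Fin 4) (Fin 4) F[X] := Units.coeHom _
  have hW : ∀ (k : ℕ) (v : Fin 4 → F[X]), v ∈ Dom (0 : Fin 4) k →
      ((szJ F).map C) *ᵥ v ∈ Dom (3 : Fin 4) k := by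
    intro k v ⟨a, b, c⟩
    have e : ((szJ F).map C) *ᵥ v = ![v 3, v 2, v 1, v 0] := by
      ext i : 1
      fin_cases i <;> simp [szJ, Matrix.mulVec, dotProduct, Fin.sum_univ_four]
    rw [e]
    refine ⟨by simpa using a, by simpa using b, fun i hi => ?_⟩
    fin_cases i
    · simpa using c 3 (by decide)
    · simpa using c 2 (by decide)
    · simpa using c 1 (by decide)
    · exact absurd rfl hi
  obtain ⟨h1, h2⟩ := exists_corner_entry φ (polyZ (m + 1)) (polyW F) (0 : Fin 4) 3
    (letterBound w * 2 ^ (m + 1))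
    (fun p => by
      change polyZMat _ _ *ᵥ _ = _
      ext i : 1
      fin_cases i <;> simp [polyZMat])
    (fun p v => by
      change (polyZMat _ _ *ᵥ v) 3 = _
      simp [polyZMat, Matrix.mulVec, dotProduct, Fin.sum_univ_four])
    (fun k v hv => hW k v hv) (fun k v hv => hW k v hv) (letterBound w)
    (fun p hp k v hv => degree_step (Nat.le_add_left 1 m) hp k hv) w hw le_rfl
  obtain ⟨x, hx⟩ := exists_eval_ne_zero h1 (lt_of_le_of_lt h2 (by
    rw [hF, ← mul_assoc, show 2 * m + 1 = m + (m + 1) by ring, pow_add 2 m (m + 1)]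
    refine (Nat.mul_lt_mul_right (pow_pos two_pos _)).mpr ?_
    unfold szBound at hm
    exact lt_of_lt_of_le (by omega) (Nat.lt_two_pow_self (n := m)).le))
  let ev : GL (Fin 4) F[X] →* GL (Fin 4) F := Matrix.GeneralLinearGroup.map (evalRingHom x)
  let g := pgen (fun i => (X : F[X]) ^ (i + 2)) X X (polyZ (m + 1)) (polyW F)
  have hZ : ∀ p : Multiplicative F[X],
      ev (polyZ (m + 1) p) = szU θ hθ 0 ((Multiplicative.toAdd p).eval x) := by
    intro p
    refine Units.ext ?_
    ext a b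
    change ((polyZMat (m + 1) (Multiplicative.toAdd p)).map (evalRingHom x)) a b = szUMat θ 0 _ a b
    fin_cases a <;> fin_cases b <;> simp [polyZMat, szUMat, hθe]
  have hWe : ev (polyW F) = szW F := by
    refine Units.ext ?_
    ext a b
    change (((szJ F).map C).map (evalRingHom x)) a b = szJ F a b
    simp
  have hmem : ∀ i, ev (g i) ∈ Cfsg.Lie.Sz F (2 ^ (m + 1)) := by
    intro i
    have hu : ∀ p, ev (polyZ (m + 1) p) ∈ Cfsg.Lie.Sz F (2 ^ (m + 1)) := fun p => by
      rw [hZ, mem_sz_iff hθe]; exact memSz_szU hθ _ _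
    have hw' : ev (polyW F) ∈ Cfsg.Lie.Sz F (2 ^ (m + 1)) := by
      rw [hWe, mem_sz_iff hθe]; exact memSz_szW
    simp only [g, pgen, map_mul, map_inv]
    exact mul_mem (mul_mem (mul_mem (mul_mem (hu _) hw') (hu _)) (inv_mem hw')) (hu _)
  refine ⟨fun i => ⟨ev (g i), hmem i⟩, fun h => hx ?_⟩
  have he : (Cfsg.Lie.Sz F (2 ^ (m + 1))).subtype.comp (FreeGroup.lift fun i => ⟨ev (g i), hmem i⟩) =
      ev.comp (FreeGroup.lift g) := by ext i; simp
  have h3 : ev (FreeGroup.lift g w) = 1 := by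
    have := DFunLike.congr_fun he w
    simp only [MonoidHom.comp_apply, h, map_one] at this
    exact this.symm
  have := congrArg (fun A : GL (Fin 4) F => (A : Matrix (Fin 4) (Fin 4) F) 3 0) h3
  change evalRingHom x ((FreeGroup.lift g w : GL (Fin 4) F[X]).1 3 0) = _ at this
  simpa [φ, g] using this

end CfsgLib.Laws
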